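import Cfsg.Agent.Lib.Transfer.SelfCentNoncyclic.Shape
import Cfsg.Agent.Lib.Classical.DicksonCentral

/-!
`PSL(2, q)`: the condition on `q` from an involution centraliser of 2-power order, and the converse.
-/

set_option autoImplicit false
set_option linter.style.haveILetI false
set_option linter.unusedSectionVars false

namespace Cfsg.Agent.Transfer.SelfCentNoncyclic

open Cfsg.Agent.Dickson

variable {F : Type} [Field F] [Fintype F]

local notation "PSL₂" => Matrix.ProjectiveSpecialLinearGroup (Fin 2) F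

/-- The admissible orders. -/
def Good (q : ℕ) : Prop := q = 4 ∨ q = 9 ∨ (q.Prime ∧ ∃ k : ℕ, q = 2 ^ k + 1 ∨ q = 2 ^ k - 1)

theorem prop_congr {G : Type*} [Group G] {K : Type*} [Group K] (e : G ≃* K) (h : Prop' K) : Prop' G := by
  intro H hH g hg
  have hH' : ¬ IsCyclic ↥(H.map e.toMonoidHom) := fun hc => by
    haveI := hc
    haveI : IsCyclic ↥(H.map (e : G →* K)) := hc
    exact hH (isCyclic_of_injective (e.subgroupMap H).toMonoidHom (e.subgroupMap H).injective)
  have hg' : e g ∈ Subgroup.centralizer ((H.map e.toMonoidHom : Subgroup K) : Set K) := by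
    rw [Subgroup.mem_centralizer_iff]
    rintro _ ⟨x, hx, rfl⟩
    show e x * e g = e g * e x
    rw [← map_mul, ← map_mul, Subgroup.mem_centralizer_iff.1 hg x hx]
  obtain ⟨x, hx, hxe⟩ := h _ hH' hg'
  exact e.injective hxe ▸ hx

variable (p : ℕ) [Fact p.Prime] [CharP F p]
include p

theorem card_centralizer_involution (hodd : Odd (Fintype.card F)) {g : PSL₂} (hg : orderOf g = 2) :
    (Fintype.card F % 4 = 1 → Nat.card (Subgroup.centralizer ({g} : Set PSL₂)) = Fintype.card F - 1) ∧
    (Fintype.card F % 4 = 3 → Nat.card (Subgroup.centralizer ({g} : Set PSL₂)) = Fintype.card F + 1) := by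
  obtain ⟨h1, hgp, h2⟩ := involution_semi p hodd hg
  obtain ⟨-, ha, hb⟩ := card_tor_involution p hodd hg
  rw [centralizer_involution p h1 hgp h2, (normalizer_tor p h1 hgp).1]
  refine ⟨fun h => ?_, fun h => ?_⟩
  · rw [ha h]; omega
  · rw [hb h]; omega

theorem good_of_two_group (hodd : Odd (Fintype.card F)) {g : PSL₂} (hg : orderOf g = 2)
    (h : IsPGroup 2 ↥(Subgroup.centralizer ({g} : Set PSL₂))) : Good (Fintype.card F) := by
  haveI : Fact (Nat.Prime 2) := ⟨Nat.prime_two⟩
  obtain ⟨j, hj⟩ := IsPGroup.iff_card.1 h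
  obtain ⟨ha, hb⟩ := card_centralizer_involution p hodd hg
  obtain ⟨n, hp, hn⟩ := FiniteField.card F p
  have hp2 : p ≠ 2 := char_ne_two_of_odd_card hodd p
  have hq := Fintype.one_lt_card (α := F)
  have key : Fintype.card F = 2 ^ j + 1 ∨ Fintype.card F + 1 = 2 ^ j := by
    obtain ⟨m, hm⟩ := hodd
    rcases (show Fintype.card F % 4 = 1 ∨ Fintype.card F % 4 = 3 by omega) with h4 | h4
    · left; have := ha h4; omega
    · right; have := hb h4; omega
  rw [hn] at key
  rcases prime_or_nine hp hp2 n.ne_zero key with h9 | hpr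
  · exact Or.inr (Or.inl (hn.trans h9))
  · refine Or.inr (Or.inr ⟨hn ▸ hpr, j, ?_⟩)
    rw [hn]
    omega

/-- In `PSL(2, q)` for these `q` every non-cyclic subgroup contains its centraliser. -/
theorem prop_psl (hq : Good (Fintype.card F)) : Prop' PSL₂ := by
  classical
  haveI : Fact (Nat.Prime 2) := ⟨Nat.prime_two⟩
  set D := pslData (F := F) p
  intro H hH c hc
  obtain rfl | hc1 := eq_or_ne c 1
  · exact one_mem _
  have hHC : H ≤ Subgroup.centralizer ({c} : Set PSL₂) := fun h hh =>
    Subgroup.mem_centralizer_singleton_iff.2 (Subgroup.mem_centralizer_iff.1 hc h hh)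
  obtain ⟨n, hp, hn⟩ := FiniteField.card F p
  by_cases hcp : c ^ p = 1
  · rw [centralizer_eq_tor p hc1 (Or.inl hcp)] at hHC
    have hT : Nat.card (tor c) = p ^ (n : ℕ) := (card_tor_uni p hc1 hcp).trans hn
    obtain ⟨i, hi, hHi⟩ := (Nat.dvd_prime_pow hp).1 (hT ▸ Subgroup.card_dvd_of_le hHC)
    have hn2 : (n : ℕ) ≤ 2 := by
      by_contra hlt
      have h3 : p ^ 3 ≤ Fintype.card F := hn ▸ Nat.pow_le_pow_right hp.pos (by omega)
      rcases hq with e | e | ⟨e, -⟩
      · have : 2 ^ 3 ≤ p ^ 3 := Nat.pow_le_pow_left hp.two_le 3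
        omega
      · rcases eq_or_lt_of_le hp.two_le with h2 | h2
        · have : 2 ∣ Fintype.card F := by
            rw [hn, ← h2]; exact dvd_pow_self 2 n.ne_zero
          omega
        · have : 3 ^ 3 ≤ p ^ 3 := Nat.pow_le_pow_left h2 3
          omega
      · rw [hn] at e
        exact Nat.Prime.not_prime_pow (by omega) e
    rcases Nat.lt_or_ge i 2 with hi2 | hi2
    · exfalso
      interval_cases i
      · rw [pow_zero] at hHi
        haveI : Subsingleton ↥H := (Nat.card_eq_one_iff_unique.1 hHi).1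
        exact hH inferInstance
      · rw [pow_one] at hHi
        exact hH (isCyclic_of_prime_card hHi)
    · have heq : H = tor c := Subgroup.eq_of_le_of_card_ge hHC (by
        rw [hT, hHi, show i = (n : ℕ) by omega])
      rw [heq]; exact D.self c
  by_cases hc2 : c * c = 1
  swap
  · exfalso
    rw [centralizer_eq_tor p hc1 (Or.inr hc2)] at hHC
    haveI : IsCyclic ↥(tor c) := D.semi_cyclic hc1 hcp
    exact hH (isCyclic_of_injective _ (Subgroup.inclusion_injective hHC))
  -- an involution, so the characteristic is odd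
  have hco : orderOf c = 2 := orderOf_eq_prime (by rw [pow_two, hc2]) hc1
  have hp2 : p ≠ 2 := fun e => hcp (by rw [e, pow_two, hc2])
  have hodd : Odd (Fintype.card F) := odd_of_p p hp2
  rw [centralizer_involution p hc1 hcp hc2] at hHC
  have hflip : ∀ g ∈ H, g ∉ tor c → g * g = 1 ∧ ∀ b ∈ tor c, g * b * g⁻¹ = b⁻¹ := fun g hg hgn =>
    D.semi_flip hc1 hcp ((D.mem_normalizer_iff hc1).1 (hHC hg)) hgn
  -- a nontrivial element of `H` in the torus
  obtain ⟨y, hyH, hyT, hy1⟩ : ∃ y ∈ H, y ∈ tor c ∧ y ≠ 1 := by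
    by_contra hno
    push Not at hno
    by_cases hall : ∀ h ∈ H, h ∈ tor c
    · haveI : Subsingleton ↥H := ⟨fun a b => Subtype.ext
        ((hno a a.2 (hall a a.2)).trans (hno b b.2 (hall b b.2)).symm)⟩
      exact hH inferInstance
    push Not at hall
    obtain ⟨h, hh, hhn⟩ := hall
    have hle : H ≤ Subgroup.zpowers h := by
      intro g hg
      by_cases hgT : g ∈ tor c
      · rw [hno g hg hgT]; exact one_mem _
      · have h3 := hno _ (mul_mem hh hg) (D.semi_mul hc1 hcp
          ((D.mem_normalizer_iff hc1).1 (hHC hh)) hhn ((D.mem_normalizer_iff hc1).1 (hHC hg)) hgT)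
        rw [eq_inv_of_mul_eq_one_right h3]
        exact inv_mem (Subgroup.mem_zpowers h)
    exact hH (isCyclic_of_injective _ (Subgroup.inclusion_injective hle))
  -- the torus is a 2-group
  have hT2 : ∃ j, Nat.card (tor c) ∣ 2 ^ j := by
    obtain ⟨-, ha, hb⟩ := card_tor_involution p hodd hco
    obtain ⟨m, hm⟩ := hodd
    have hq1 := Fintype.one_lt_card (α := F)
    rcases hq with e | e | ⟨-, k, e⟩
    · omega
    · refine ⟨2, ?_⟩
      rw [ha (by omega), e]; norm_num
    · rcases Nat.lt_or_ge k 2 with hk | hk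
      · interval_cases k <;> rcases e with e | e <;> simp at e
        all_goals first
          | omega
          | (refine ⟨1, ?_⟩; rw [hb (by omega), e]; norm_num)
      · obtain ⟨d, hd⟩ := Nat.exists_eq_add_of_le hk
        subst hd
        have h4 : 2 ^ (2 + d) = 4 * 2 ^ d := by rw [pow_add]; norm_num
        have h5 : 2 ^ (1 + d) = 2 * 2 ^ d := by rw [pow_add, pow_one]
        have hpos := Nat.one_le_two_pow (n := d)
        refine ⟨1 + d, dvd_of_eq ?_⟩
        rcases e with e | e
        · rw [ha (by omega)]; omega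
        · rw [hb (by omega)]; omega
  obtain ⟨j, hj⟩ := hT2
  obtain ⟨i, -, hi⟩ := (Nat.dvd_prime_pow Nat.prime_two).1 ((Subgroup.orderOf_dvd_natCard _ hyT).trans hj)
  rcases Nat.eq_zero_or_pos i with rfl | hi0
  · exact absurd (orderOf_eq_one_iff.1 (by simpa using hi)) hy1
  obtain ⟨i, rfl⟩ : ∃ k, i = k + 1 := ⟨i - 1, by omega⟩
  have hord : orderOf (y ^ 2 ^ i) = 2 := by
    rw [orderOf_pow' _ (by positivity), hi, pow_succ, Nat.gcd_eq_right (dvd_mul_right _ _),
      Nat.mul_div_cancel_left _ (by positivity)]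
  haveI : IsCyclic ↥(tor c) := D.semi_cyclic hc1 hcp
  have hyc : y ^ 2 ^ i = c := Block.BSWRec.involution_eq (R := tor c) inferInstance
    (pow_mem hyT _) (D.self c) hord hco
  rw [← hyc]
  exact pow_mem hyH _

end Cfsg.Agent.Transfer.SelfCentNoncyclic
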