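import Mathlib

/-!
Prime powers next to a power of two, and a transfer criterion for the semidihedral shape.
-/

set_option autoImplicit false
set_option linter.style.haveILetI false

namespace Cfsg.Agent.Transfer.SelfCentNoncyclic

theorem odd_geom_sum {x : ℤ} (hx : Odd x) {n : ℕ} (hn : Odd n) :
    Odd (∑ i ∈ Finset.range n, x ^ i) := by
  have h : ∀ m : ℕ, (Odd (∑ i ∈ Finset.range m, x ^ i) ↔ Odd m) := by
    intro m
    induction m with
    | zero => simp
    | succ m ih =>
      rw [Finset.sum_range_succ, Int.odd_add, ih]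
      simp [Nat.odd_add_one, Int.not_even_iff_odd.2 hx.pow]
  exact (h n).2 hn

/-- An odd-length geometric sum dividing a power of two is `± 1`. -/
theorem geom_sum_unit {x : ℤ} (hx : Odd x) {n j : ℕ} (hn : Odd n)
    (h : (x ^ n - 1).natAbs = 2 ^ j) : x ^ n - 1 = x - 1 ∨ x ^ n - 1 = -(x - 1) := by
  have hs := geom_sum_mul x n
  have hodd : Odd (∑ i ∈ Finset.range n, x ^ i).natAbs := Int.natAbs_odd.2 (odd_geom_sum hx hn)
  obtain ⟨i, -, hi⟩ := (Nat.dvd_prime_pow Nat.prime_two).1
    (show (∑ i ∈ Finset.range n, x ^ i).natAbs ∣ 2 ^ j by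
      rw [← h, ← hs, Int.natAbs_mul]; exact dvd_mul_right _ _)
  have h1 : (∑ i ∈ Finset.range n, x ^ i).natAbs = 1 := by
    rcases Nat.eq_zero_or_pos i with rfl | hi0
    · simpa using hi
    · exfalso
      rw [hi] at hodd
      exact Nat.not_even_iff_odd.2 hodd (even_two.pow_of_ne_zero hi0.ne')
  rcases Int.natAbs_eq_iff.1 h1 with e | e <;> rw [e] at hs
  · left; rw [← hs]; simp
  · right; rw [← hs]; simp

/-- An odd prime power next to a power of two is `9` or a prime. -/
theorem prime_or_nine {p n j : ℕ} (hp : p.Prime) (hp2 : p ≠ 2) (hn : n ≠ 0)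
    (h : p ^ n = 2 ^ j + 1 ∨ p ^ n + 1 = 2 ^ j) : p ^ n = 9 ∨ (p ^ n).Prime := by
  have hpo : Odd p := hp.odd_of_ne_two hp2
  have hp3 : 3 ≤ p := by have := hp.two_le; omega
  have hpz : (3 : ℤ) ≤ (p : ℤ) := by exact_mod_cast hp3
  rcases Nat.even_or_odd n with ⟨m, rfl⟩ | hno
  · have hm : m ≠ 0 := by omega
    obtain ⟨u, hu⟩ : Odd (p ^ m) := hpo.pow
    rw [pow_add, hu] at h
    rcases h with h | h
    · -- both neighbours of `p ^ m` are powers of two
      have hprod : (2 * u) * (2 * u + 2) = 2 ^ j := by nlinarith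
      obtain ⟨a, -, ha⟩ := (Nat.dvd_prime_pow Nat.prime_two).1
        (show 2 * u ∣ 2 ^ j from hprod ▸ dvd_mul_right _ _)
      obtain ⟨b, -, hb⟩ := (Nat.dvd_prime_pow Nat.prime_two).1
        (show 2 * u + 2 ∣ 2 ^ j from hprod ▸ dvd_mul_left _ _)
      have ha1 : a ≤ 1 := by
        by_contra hlt
        have hb2 : 2 ≤ b := by
          by_contra hb'
          have h4a : 2 ^ 2 ≤ 2 ^ a := Nat.pow_le_pow_right (by norm_num) (by omega)
          have hb1 : 2 ^ b ≤ 2 ^ 1 := Nat.pow_le_pow_right (by norm_num) (by omega)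
          omega
        obtain ⟨c, hc⟩ := pow_dvd_pow 2 (show 2 ≤ a by omega)
        obtain ⟨d, hd⟩ := pow_dvd_pow 2 hb2
        omega
      left
      have : u = 1 := by
        interval_cases a
        · omega
        · omega
      subst this
      rw [pow_add, hu]; rfl
    · exfalso
      rcases Nat.lt_or_ge j 2 with hj | hj
      · have : 2 ^ j ≤ 2 ^ 1 := Nat.pow_le_pow_right (by norm_num) (by omega)
        have h3 : 3 ≤ p ^ m := hp3.trans (Nat.le_self_pow hm p)
        nlinarith
      · obtain ⟨c, hc⟩ := pow_dvd_pow 2 hj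
        rw [show (2 * u + 1) * (2 * u + 1) = 4 * (u * u + u) + 1 by ring] at h
        omega
  · right
    suffices n = 1 by subst this; rwa [pow_one]
    have key : p ^ n = p ^ 1 := by
      rcases h with h | h
      · have hz : (p : ℤ) ^ n - 1 = (2 ^ j : ℕ) := by
          have := congrArg (Nat.cast (R := ℤ)) h
          push_cast at this ⊢
          linarith
        have hge : (0 : ℤ) < (2 ^ j : ℕ) := by positivity
        rcases geom_sum_unit (x := (p : ℤ)) (by exact_mod_cast hpo) hno
          (by rw [hz, Int.natAbs_natCast]) with e | e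
        · have e' : (p : ℤ) ^ n = (p : ℤ) ^ 1 := by rw [pow_one]; linarith
          exact_mod_cast e'
        · rw [hz] at e; linarith
      · have hz : (-(p : ℤ)) ^ n - 1 = -((2 ^ j : ℕ) : ℤ) := by
          have := congrArg (Nat.cast (R := ℤ)) h
          push_cast at this ⊢
          rw [hno.neg_pow]
          linarith
        have hge : (0 : ℤ) < (2 ^ j : ℕ) := by positivity
        rcases geom_sum_unit (x := -(p : ℤ)) ((by exact_mod_cast hpo : Odd (p : ℤ)).neg) hno
          (by rw [hz, Int.natAbs_neg, Int.natAbs_natCast]) with e | e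
        · have e' : (p : ℤ) ^ n = (p : ℤ) ^ 1 := by
            rw [hno.neg_pow] at e
            rw [pow_one]; linarith
          exact_mod_cast e'
        · rw [hz] at e; linarith
    exact Nat.pow_right_injective hp.two_le key

open MulAction in
/-- If a Sylow 2-subgroup `P` is the centraliser of `z`, an element of order four outside a subgroup
`M` of index two squares to `z`, and `M` contains all involutions while all squares of elements of
order four equal `z`, then transfer gives a normal subgroup of index two. -/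
theorem exists_index_two {G : Type*} [Group G] [Finite G] (P : Subgroup G) (z : G)
    (hC : ∀ g : G, g * z = z * g → g ∈ P) (φ : ↥P →* Multiplicative (ZMod 2))
    (hinv : ∀ x : ↥P, x ^ 2 = 1 → φ x = 1)
    (hsq : ∀ x : ↥P, x ^ 4 = 1 → x ^ 2 ≠ 1 → ((x : G)) ^ 2 = z)
    (u : ↥P) (hu : φ u ≠ 1) (hu2 : ((u : G)) ^ 2 = z) (hz : z ≠ 1) (hzz : z ^ 2 = 1) :
    ∃ ψ : G →* Multiplicative (ZMod 2), ψ u ≠ 1 := by
  classical
  haveI : P.FiniteIndex := inferInstance
  refine ⟨φ.transfer, ?_⟩
  letI := Fintype.ofFinite (Quotient (orbitRel (Subgroup.zpowers (u : G)) (G ⧸ P)))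
  rw [MonoidHom.transfer_eq_prod_quotient_orbitRel_zpowers_quot]
  have hu4 : (u : G) ^ 4 = 1 := by rw [show 4 = 2 * 2 by rfl, pow_mul, hu2, hzz]
  set q₀ : Quotient (orbitRel (Subgroup.zpowers (u : G)) (G ⧸ P)) :=
    Quotient.mk'' ((1 : G) : G ⧸ P) with hq₀
  rw [Finset.prod_eq_single q₀]
  rotate_left
  · intro q _ hq
    have hk : Function.minimalPeriod ((u : G) • ·) q.out ∣ 4 := by
      rw [← MulAction.pow_smul_eq_iff_minimalPeriod_dvd, hu4, one_smul]
    have hmem := QuotientGroup.out_conj_pow_minimalPeriod_mem P (u : G) q.out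
    obtain ⟨i, hi2, hi⟩ := (Nat.dvd_prime_pow Nat.prime_two).1 (show _ ∣ 2 ^ 2 from hk)
    refine hinv _ (Subtype.ext ?_)
    have hc : ∀ (x g : G) (m : ℕ), (x⁻¹ * g * x) ^ m = x⁻¹ * g ^ m * x := fun x g m => by
      simpa using conj_pow (i := m) (a := x⁻¹) (b := g)
    rw [Subgroup.coe_pow, Subgroup.coe_one, hc]
    interval_cases i
    · exfalso
      simp only [pow_zero] at hi
      rw [hi, pow_one] at hmem
      have hz' := hsq ⟨_, hmem⟩
        (Subtype.ext (by rw [Subgroup.coe_pow, Subgroup.coe_one, hc, hu4]; simp))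
        (fun e => by
          have e' := congrArg Subtype.val e
          rw [Subgroup.coe_pow, Subgroup.coe_one] at e'
          change (q.out.out⁻¹ * (u : G) * q.out.out) ^ 2 = 1 at e'
          rw [hc, hu2] at e'
          refine hz ?_
          calc z = q.out.out * (q.out.out⁻¹ * z * q.out.out) * q.out.out⁻¹ := by group
            _ = 1 := by rw [e']; group)
      change (q.out.out⁻¹ * (u : G) * q.out.out) ^ 2 = z at hz'
      rw [hc, hu2] at hz'
      have hP : q.out.out ∈ P := hC _ (by
        calc q.out.out * z = q.out.out * (q.out.out⁻¹ * z * q.out.out) := by rw [hz']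
          _ = z * q.out.out := by group)
      refine hq ?_
      rw [← Quotient.out_eq' q, hq₀]
      congr 1
      rw [← QuotientGroup.out_eq' q.out]
      exact QuotientGroup.eq.2 (by simpa using inv_mem hP)
    · rw [hi, pow_one, hu2, hzz]; simp
    · rw [hi, ← pow_mul, show 2 ^ 2 * 2 = 4 * 2 by rfl, pow_mul, hu4]; simp
  · intro h; exact absurd (Finset.mem_univ _) h
  have hout : q₀.out = ((1 : G) : G ⧸ P) := by
    obtain ⟨⟨g, k, hg⟩, hkg⟩ := Quotient.mk_out' (s₁ := orbitRel (Subgroup.zpowers (u : G)) (G ⧸ P))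
      ((1 : G) : G ⧸ P)
    rw [hq₀, ← hkg]
    show g • ((1 : G) : G ⧸ P) = _
    rw [MulAction.Quotient.smul_coe, QuotientGroup.eq]
    simp only [smul_eq_mul, mul_one, inv_mem_iff]
    rw [← hg]
    exact zpow_mem u.2 k
  have hfix : (u : G) • ((1 : G) : G ⧸ P) = ((1 : G) : G ⧸ P) := by
    rw [MulAction.Quotient.smul_coe, QuotientGroup.eq]
    simp only [smul_eq_mul, mul_one, inv_mem_iff]
    exact u.2
  have hper : Function.minimalPeriod ((u : G) • ·) q₀.out = 1 :=
    Function.minimalPeriod_eq_one_iff_isFixedPt.2 (by rw [hout]; exact hfix)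
  have hr : q₀.out.out ∈ P := by
    rw [hout]
    have := QuotientGroup.eq.1 (QuotientGroup.out_eq' ((1 : G) : G ⧸ P))
    simpa using this
  set r : ↥P := ⟨q₀.out.out, hr⟩ with hrdef
  have key : ∀ h : q₀.out.out⁻¹ * (u : G) ^ Function.minimalPeriod ((u : G) • ·) q₀.out * q₀.out.out ∈ P,
      φ ⟨_, h⟩ = φ u := by
    intro h
    have e : (⟨_, h⟩ : ↥P) = r⁻¹ * u * r := Subtype.ext (by
      show q₀.out.out⁻¹ * (u : G) ^ _ * q₀.out.out = q₀.out.out⁻¹ * (u : G) * q₀.out.out
      rw [hper, pow_one])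
    rw [e, map_mul, map_mul, mul_comm (φ r⁻¹), mul_assoc, ← map_mul, inv_mul_cancel, map_one, mul_one]
  rw [key]
  exact hu

end Cfsg.Agent.Transfer.SelfCentNoncyclic
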