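import Cfsg.Agent.Lib.Transfer.SelfCentNoncyclic.Basic
import Cfsg.Agent.Lib.Invol.BrauerSuzuki
import Cfsg.Agent.Lib.Block.BSWRec.Dihedral
import Cfsg.Agent.S0205
import Cfsg.Agent.S0200
import Cfsg.Agent.S3224
import Cfsg.Agent.S3116

/-!
Simple groups in which every non-cyclic subgroup contains its centraliser: the involution
centralisers are 2-groups and the group is `PSL(2, q)`.
-/

set_option autoImplicit false
set_option linter.style.haveILetI false

namespace Cfsg.Agent.Transfer.SelfCentNoncyclic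

universe u

/-- Every non-cyclic subgroup contains its centraliser. -/
def Prop' (G : Type u) [Group G] : Prop :=
  ∀ H : Subgroup G, ¬ IsCyclic ↥H → Subgroup.centralizer (H : Set G) ≤ H

variable {G : Type u} [Group G] [Finite G]

theorem mem_zpowers_invol {v x : G} (hv : orderOf v = 2) (hx : x ∈ Subgroup.zpowers v) : x = 1 ∨ x = v := by
  obtain ⟨i, rfl⟩ := Subgroup.mem_zpowers_iff.1 hx
  have hv2 : v ^ (2 : ℤ) = 1 := by
    rw [show (2 : ℤ) = ((2 : ℕ) : ℤ) by norm_num, zpow_natCast, ← hv, pow_orderOf_eq_one]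
  obtain ⟨k, rfl⟩ | ⟨k, rfl⟩ := Int.even_or_odd i
  · left; rw [← two_mul, zpow_mul, hv2, one_zpow]
  · right; rw [zpow_add, zpow_mul, hv2, one_zpow, one_mul, zpow_one]

/-- In the centraliser of `t` another involution inverts nothing of odd order. -/
theorem no_inversion (hP : Prop' G) {t v w : G} (ht : orderOf t = 2) (hv : orderOf v = 2)
    (hne : t ≠ v) (hvt : v * t = t * v) (hwt : w * t = t * w) (hw : Odd (orderOf w))
    (hinv : v * w * v⁻¹ = w⁻¹) : w = 1 := by
  by_contra hw1
  set A := Subgroup.zpowers w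
  set B := Subgroup.zpowers v
  have hBN : B ≤ Subgroup.normalizer (A : Set G) := Subgroup.zpowers_le.2 <| by
    rw [Subgroup.mem_normalizer_iff_map_conj_eq, MonoidHom.map_zpowers]
    show Subgroup.zpowers (v * w * v⁻¹) = A
    rw [hinv, Subgroup.zpowers_inv]
  have hH : ¬ IsCyclic ↥(A ⊔ B) := by
    intro hc
    letI : CommGroup ↥(A ⊔ B) := hc.commGroup
    have hcomm : v * w = w * v := congrArg Subtype.val
      (mul_comm (⟨v, le_sup_right (α := Subgroup G) (a := A) (Subgroup.mem_zpowers v)⟩ : ↥(A ⊔ B))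
        ⟨w, le_sup_left (α := Subgroup G) (b := B) (Subgroup.mem_zpowers w)⟩)
    rw [hcomm, mul_inv_cancel_right, eq_inv_iff_mul_eq_one, ← pow_two] at hinv
    exact hw1 (orderOf_eq_one_iff.1 ((Nat.dvd_prime Nat.prime_two).1 (orderOf_dvd_of_pow_eq_one hinv) |>.resolve_right
      fun e => Nat.not_even_iff_odd.2 hw (e ▸ even_two)))
  have htC : t ∈ Subgroup.centralizer ((A ⊔ B : Subgroup G) : Set G) := by
    rw [Subgroup.mem_centralizer_iff]
    intro h hh
    have hle : A ⊔ B ≤ Subgroup.centralizer ({t} : Set G) :=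
      sup_le (Subgroup.zpowers_le.2 (Subgroup.mem_centralizer_singleton_iff.2 hwt))
        (Subgroup.zpowers_le.2 (Subgroup.mem_centralizer_singleton_iff.2 hvt))
    exact Subgroup.mem_centralizer_singleton_iff.1 (hle hh)
  have htH : t ∈ ((A ⊔ B : Subgroup G) : Set G) := hP _ hH htC
  rw [Subgroup.coe_mul_of_right_le_normalizer_left A B hBN] at htH
  obtain ⟨x, hx, y, hy, hxy⟩ := htH
  have hxodd : Odd (orderOf x) :=
    hw.of_dvd_nat ((Nat.card_zpowers w) ▸ Subgroup.orderOf_dvd_natCard _ hx)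
  change x * y = t at hxy
  rcases mem_zpowers_invol hv hy with rfl | rfl
  · rw [mul_one] at hxy; subst hxy
    exact Nat.not_even_iff_odd.2 hxodd (ht ▸ even_two)
  · have hx2 : x ^ 2 = 1 := by
      rw [eq_mul_inv_of_mul_eq hxy, Commute.mul_pow (Commute.inv_right hvt.symm), inv_pow, ← ht,
        pow_orderOf_eq_one, ht, ← hv, pow_orderOf_eq_one, inv_one, mul_one]
    have hx1 : x = 1 := orderOf_eq_one_iff.1
      ((Nat.dvd_prime Nat.prime_two).1 (orderOf_dvd_of_pow_eq_one hx2) |>.resolve_right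
        fun e => Nat.not_even_iff_odd.2 hxodd (e ▸ even_two))
    rw [hx1, one_mul] at hxy
    exact hne hxy.symm

/-- Two commuting involutions generate a subgroup containing its centraliser. -/
theorem centralizer_four (hP : Prop' G) {t v g : G} (ht : orderOf t = 2) (hv : orderOf v = 2)
    (hne : t ≠ v) (hvt : v * t = t * v) (h1 : g * t = t * g) (h2 : g * v = v * g) :
    g = 1 ∨ g = t ∨ g = v ∨ g = t * v := by
  set A := Subgroup.zpowers t
  set B := Subgroup.zpowers v
  have hH : ¬ IsCyclic ↥(A ⊔ B) := fun hc => hne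
    (Block.BSWRec.involution_eq hc (le_sup_left (α := Subgroup G) (b := B) (Subgroup.mem_zpowers t))
      (le_sup_right (α := Subgroup G) (a := A) (Subgroup.mem_zpowers v)) ht hv)
  have hBN : B ≤ Subgroup.normalizer (A : Set G) := Subgroup.zpowers_le.2 <| by
    rw [Subgroup.mem_normalizer_iff_map_conj_eq, MonoidHom.map_zpowers]
    show Subgroup.zpowers (v * t * v⁻¹) = A
    rw [hvt, mul_inv_cancel_right]
  have hgC : g ∈ Subgroup.centralizer ((A ⊔ B : Subgroup G) : Set G) := by
    rw [Subgroup.mem_centralizer_iff]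
    intro h hh
    have hle : A ⊔ B ≤ Subgroup.centralizer ({g} : Set G) :=
      sup_le (Subgroup.zpowers_le.2 (Subgroup.mem_centralizer_singleton_iff.2 h1.symm))
        (Subgroup.zpowers_le.2 (Subgroup.mem_centralizer_singleton_iff.2 h2.symm))
    exact Subgroup.mem_centralizer_singleton_iff.1 (hle hh)
  have hgH : g ∈ ((A ⊔ B : Subgroup G) : Set G) := hP _ hH hgC
  rw [Subgroup.coe_mul_of_right_le_normalizer_left A B hBN] at hgH
  obtain ⟨x, hx, y, hy, hxy⟩ := hgH
  change x * y = g at hxy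
  rcases mem_zpowers_invol ht hx with rfl | rfl <;> rcases mem_zpowers_invol hv hy with rfl | rfl <;>
    simp [← hxy]

theorem card_centralizer_four {P : Subgroup G} (hP : Prop' G) {t v : G} (ht : orderOf t = 2)
    (hv : orderOf v = 2) (hne : t ≠ v) (hvt : v * t = t * v) (htP : t ∈ P) (hvP : v ∈ P)
    (hPt : ∀ g ∈ P, g * t = t * g) :
    Nat.card ↥(Subgroup.centralizer ({⟨v, hvP⟩} : Set ↥P)) = 4 := by
  classical
  have h : ((↑) : ↥P → G) '' (Subgroup.centralizer ({⟨v, hvP⟩} : Set ↥P) : Set ↥P) =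
      ({1, t, v, t * v} : Finset G) := by
    ext g
    simp only [Set.mem_image, SetLike.mem_coe, Subgroup.mem_centralizer_singleton_iff,
      Finset.coe_insert, Finset.coe_singleton, Set.mem_insert_iff, Set.mem_singleton_iff]
    constructor
    · rintro ⟨⟨x, hx⟩, hc, rfl⟩
      exact centralizer_four hP ht hv hne hvt (hPt x hx) (congrArg Subtype.val hc)
    · rintro (rfl | rfl | rfl | rfl)
      · exact ⟨1, by simp, rfl⟩
      · exact ⟨⟨g, htP⟩, Subtype.ext hvt.symm, rfl⟩
      · exact ⟨⟨g, hvP⟩, rfl, rfl⟩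
      · exact ⟨⟨t * v, mul_mem htP hvP⟩, Subtype.ext (show t * v * v = v * (t * v) by
          rw [← mul_assoc v t v, hvt]), rfl⟩
  have hv1 := Invol.ne_one_of_orderOf_two hv
  have ht1 := Invol.ne_one_of_orderOf_two ht
  rw [← SetLike.coe_sort_coe, Nat.card_coe_set_eq,
    ← Set.ncard_image_of_injective _ Subtype.coe_injective, h, Set.ncard_coe_finset,
    Finset.card_insert_of_notMem, Finset.card_insert_of_notMem, Finset.card_insert_of_notMem,
    Finset.card_singleton]
  all_goals simp only [Finset.mem_insert, Finset.mem_singleton, not_or]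
  · exact fun e => ht1 (mul_eq_right.1 e.symm)
  · exact ⟨hne, fun e => hv1 (mul_eq_left.1 e.symm)⟩
  · exact ⟨ht1.symm, hv1.symm, fun e => hne (by
      rw [eq_inv_of_mul_eq_one_left e.symm, Invol.inv_of_orderOf_two hv])⟩

/-- The centraliser of an involution commuting with another one is a 2-group. -/
theorem isPGroup_centralizer (hP : Prop' G) {t v : G} (ht : orderOf t = 2) (hv : orderOf v = 2)
    (hne : t ≠ v) (hvt : v * t = t * v) : IsPGroup 2 ↥(Subgroup.centralizer ({t} : Set G)) := by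
  classical
  haveI : Fact (Nat.Prime 2) := ⟨Nat.prime_two⟩
  set C := Subgroup.centralizer ({t} : Set G) with hC
  have hmC : ∀ g, g ∈ C ↔ g * t = t * g := fun g => Subgroup.mem_centralizer_singleton_iff
  set R := Cfsg.pCore 2 ↥C
  haveI hRn : R.Normal := Grp.pCore_isNormal
  have hRp : IsPGroup 2 ↥R := Grp.pCore_isPGroup
  set t' : ↥C := ⟨t, (hmC t).2 rfl⟩
  set v' : ↥C := ⟨v, (hmC v).2 hvt⟩
  have htR : t' ∈ R := by
    have hn : (Subgroup.zpowers t').Normal := ⟨fun x hx g => by
      obtain ⟨i, rfl⟩ := Subgroup.mem_zpowers_iff.1 hx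
      have hc : Commute g t' := Subtype.ext ((hmC g.1).1 g.2)
      rw [(hc.zpow_right i).eq, mul_inv_cancel_right]
      exact zpow_mem (Subgroup.mem_zpowers _) i⟩
    refine Grp.le_pCore hn (IsPGroup.of_card (n := 1) ?_) (Subgroup.mem_zpowers _)
    rw [Nat.card_zpowers, pow_one, ← Subgroup.orderOf_coe]; exact ht
  have hvR : v' ∈ R := by
    by_contra hvn
    obtain ⟨h, h1, ho, hinv⟩ := Cfsg.Agent.S0200.result v' (by rw [← Subgroup.orderOf_coe]; exact hv)
      (fun N hN hNp hvN => hvn (Grp.le_pCore hN hNp hvN))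
    exact h1 (Subtype.ext (no_inversion hP ht hv hne hvt ((hmC h.1).1 h.2)
      (by rw [Subgroup.orderOf_coe]; exact ho) (by simpa [v'] using congrArg Subtype.val hinv)))
  have hne' : t' ≠ v' := fun e => hne (congrArg Subtype.val e)
  set RG : Subgroup G := R.map C.subtype
  have hRGC : ∀ g ∈ RG, g * t = t * g := by
    rintro _ ⟨x, -, rfl⟩; exact (hmC _).1 x.2
  have htRG : t ∈ RG := ⟨t', htR, rfl⟩
  have hvRG : v ∈ RG := ⟨v', hvR, rfl⟩
  have hRGp : IsPGroup 2 ↥RG := hRp.map C.subtype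
  have hcent := card_centralizer_four hP ht hv hne hvt htRG hvRG hRGC
  -- an element of odd order centralising `v` is trivial
  have hkill : ∀ g : G, g * t = t * g → g * v = v * g → g ^ 2 = 1 := by
    intro g h1 h2
    have ht2 : t ^ 2 = 1 := by rw [← ht, pow_orderOf_eq_one]
    have hv2 : v ^ 2 = 1 := by rw [← hv, pow_orderOf_eq_one]
    rcases centralizer_four hP ht hv hne hvt h1 h2 with rfl | rfl | rfl | rfl
    · exact one_pow 2
    · exact ht2
    · exact hv2
    · rw [Commute.mul_pow hvt.symm, ht2, hv2, one_mul]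
  have hodd1 : ∀ g : ↥C, Odd (orderOf g) → g = 1 := by
    intro g hg
    have key : ((g : G)) ^ 4 = 1 → g = 1 := by
      intro h4
      have : orderOf g ∣ 2 ^ 2 := by
        rw [← Subgroup.orderOf_coe]; exact orderOf_dvd_of_pow_eq_one h4
      exact orderOf_eq_one_iff.1 (Nat.Coprime.eq_one_of_dvd
        (Nat.Coprime.pow_right 2 (Nat.coprime_two_right.2 hg)) this)
    have hconjR : ∀ x ∈ RG, (g : G) * x * (g : G)⁻¹ ∈ RG := by
      rintro _ ⟨x, hx, rfl⟩
      exact ⟨g * x * g⁻¹, hRn.conj_mem x hx g, rfl⟩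
    rcases eq_or_ne (Nat.card ↥RG) 4 with h4 | h4
    · have hmem : ∀ x ∈ RG, x = 1 ∨ x = t ∨ x = v ∨ x = t * v := by
        have htop : Subgroup.centralizer ({⟨v, hvRG⟩} : Set ↥RG) = ⊤ :=
          Subgroup.eq_top_of_card_eq _ (hcent.trans h4.symm)
        intro x hx
        exact centralizer_four hP ht hv hne hvt (hRGC x hx)
          (congrArg Subtype.val (Subgroup.mem_centralizer_singleton_iff.1
            (show (⟨x, hx⟩ : ↥RG) ∈ Subgroup.centralizer ({⟨v, hvRG⟩} : Set ↥RG) from htop ▸ Subgroup.mem_top _)))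
      have hgt := (hmC (g : G)).1 g.2
      have hgt' : (g : G) * t * (g : G)⁻¹ = t := by rw [hgt, mul_inv_cancel_right]
      have hc : ((g : G) ^ 2) * v = v * (g : G) ^ 2 := by
        rw [← mul_inv_eq_iff_eq_mul, show (g : G) ^ 2 * v * ((g : G) ^ 2)⁻¹ =
          (g : G) * ((g : G) * v * (g : G)⁻¹) * (g : G)⁻¹ by rw [pow_two]; group]
        rcases hmem _ (hconjR v hvRG) with e | e | e | e
        · exact absurd (conj_eq_one_iff.1 e) (Invol.ne_one_of_orderOf_two hv)
        · have : v = t := by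
            have := congrArg (fun z => (g : G)⁻¹ * z * (g : G)) (e.trans hgt'.symm)
            simpa [mul_assoc] using this
          exact absurd this.symm hne
        · rw [e, e]
        · rw [e, show (g : G) * (t * v) * (g : G)⁻¹ = ((g : G) * t * (g : G)⁻¹) * ((g : G) * v * (g : G)⁻¹) by group,
            hgt', e, ← mul_assoc, Invol.mul_self_of_orderOf_two ht, one_mul]
      refine key ?_
      rw [show 4 = 2 * 2 by rfl, pow_mul]
      exact hkill _ (Commute.pow_left hgt 2).eq hc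
    · obtain ⟨a, ha⟩ := IsPGroup.iff_card.1 hRGp
      have hshape : (∃ n : ℕ, 4 ≤ n ∧ Nonempty (↥RG ≃* DihedralGroup n)) ∨ Cfsg.IsQuasiDihedral ↥RG := by
        rcases Cfsg.Agent.S3224.result hRGp ⟨v, hvRG⟩ (by rw [Subgroup.orderOf_mk]; exact hv) hcent with
          ⟨n, ⟨e⟩⟩ | h | h
        · refine Or.inl ⟨n, ?_, ⟨e⟩⟩
          have h1 := Nat.card_congr e.toEquiv
          rw [DihedralGroup.nat_card, ha] at h1
          have h2 : 4 ∣ 2 ^ a := ha ▸ hcent ▸ Subgroup.card_subgroup_dvd_card _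
          have h3 : 2 ≤ a := (Nat.pow_dvd_pow_iff_le_right (by norm_num : 1 < 2)).1 (show 2 ^ 2 ∣ 2 ^ a from h2)
          rcases eq_or_lt_of_le h3 with rfl | h3
          · exact absurd ha (by simpa using h4)
          · have : 2 ^ 3 ≤ 2 ^ a := Nat.pow_le_pow_right (by norm_num) (by omega)
            omega
        · exact Or.inr h
        · exact absurd h h4
      have haut : IsPGroup 2 (MulAut ↥RG) := Cfsg.Agent.S3116.result hRGp hshape
      set N := Subgroup.normalizer (RG : Set G)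
      have hgN : (g : G) ∈ N := Subgroup.mem_normalizer_iff.2 fun x => ⟨hconjR x, fun hx => by
        obtain ⟨y, hy, e⟩ := hx
        refine ⟨g⁻¹ * y * g, by simpa using hRn.conj_mem y hy g⁻¹, ?_⟩
        change (g : G)⁻¹ * (y : G) * (g : G) = x
        rw [show (y : G) = (g : G) * x * (g : G)⁻¹ from e]; group⟩
      set φ := RG.normalizerMonoidHom
      have hφ : φ ⟨g, hgN⟩ = 1 := by
        obtain ⟨k, hk⟩ := IsPGroup.iff_orderOf.1 haut (φ ⟨g, hgN⟩)
        refine orderOf_eq_one_iff.1 ?_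
        rw [hk]
        have hd : 2 ^ k ∣ orderOf g := by
          rw [← hk, ← Subgroup.orderOf_coe g, ← Subgroup.orderOf_mk (H := N) (g : G) hgN]
          exact orderOf_map_dvd φ _
        rcases Nat.eq_zero_or_pos k with rfl | hk0
        · simp
        · exact absurd hg (Nat.not_odd_iff_even.2 (even_iff_two_dvd.2 ((dvd_pow_self 2 hk0.ne').trans hd)))
      have hgv : (g : G) * v * (g : G)⁻¹ = v := by
        have := congrArg Subtype.val (DFunLike.congr_fun hφ (⟨v, hvRG⟩ : ↥RG))
        simpa [φ] using this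
      refine key ?_
      rw [show 4 = 2 * 2 by rfl, pow_mul, hkill _ ((hmC (g : G)).1 g.2) (mul_inv_eq_iff_eq_mul.1 hgv), one_pow]
  intro g
  obtain ⟨a, b, hb, hab⟩ := Nat.exists_eq_two_pow_mul_odd (orderOf_pos g).ne'
  refine ⟨a, hodd1 _ ?_⟩
  rw [orderOf_pow' g (by positivity), hab, Nat.gcd_eq_right (dvd_mul_right _ b),
    Nat.mul_div_cancel_left _ (by positivity)]
  exact hb

variable [IsSimpleGroup G]

theorem not_comm (hna : ¬ IsMulCommutative G) : ∃ a b : G, a * b ≠ b * a := by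
  by_contra h
  push Not at h
  exact hna ⟨⟨h⟩⟩

/-- A nonabelian simple group has two commuting involutions. -/
theorem exists_pair (hna : ¬ IsMulCommutative G) :
    ∃ u v : G, orderOf u = 2 ∧ orderOf v = 2 ∧ u * v = v * u ∧ u ≠ v := by
  classical
  haveI : Fact (Nat.Prime 2) := ⟨Nat.prime_two⟩
  obtain ⟨a, b, hab⟩ := not_comm hna
  have heven : Even (Nat.card G) := by
    by_contra h
    haveI := Cfsg.Agent.S0205.result (G := G) (Nat.not_even_iff_odd.1 h)
    exact hab (IsSimpleGroup.comm_iff_isSolvable.2 inferInstance a b)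
  obtain ⟨z, hz⟩ := exists_prime_orderOf_dvd_card' (G := G) 2 heven.two_dvd
  by_contra h
  push Not at h
  have hT : BS.TwoRankOne G := fun u v hu hv huv => h u v hu hv huv.eq
  obtain ⟨N, hN, hodd, hmem⟩ := BS.exists_odd_normal hT hz
  have hNb : N = ⊥ := by
    rcases hN.eq_bot_or_eq_top with h1 | h1
    · exact h1
    · rw [h1, Subgroup.card_top] at hodd
      exact absurd heven (Nat.not_even_iff_odd.2 hodd)
  have hzc : z ∈ Subgroup.center G := Subgroup.mem_center_iff.2 fun g => by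
    have h1 := hmem g
    rw [hNb, Subgroup.mem_bot, mul_inv_eq_one, mul_inv_eq_iff_eq_mul] at h1
    exact h1.symm
  rcases (inferInstance : (Subgroup.center G).Normal).eq_bot_or_eq_top with h1 | h1
  · rw [h1, Subgroup.mem_bot] at hzc; exact Invol.ne_one_of_orderOf_two hz hzc
  · exact hab (Subgroup.mem_center_iff.1 (h1 ▸ Subgroup.mem_top a) b).symm

/-- No semidihedral Sylow 2-subgroup equal to an involution centraliser. -/
theorem not_quasiDihedral (hna : ¬ IsMulCommutative G) (P : Subgroup G) {z : G} (hz : orderOf z = 2)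
    (hzP : z ∈ P) (hcen : ∀ g ∈ P, g * z = z * g) (hC : ∀ g : G, g * z = z * g → g ∈ P) :
    ¬ Cfsg.IsQuasiDihedral ↥P := by
  classical
  haveI : Fact (Nat.Prime 2) := ⟨Nat.prime_two⟩
  rintro ⟨n, hn, hcard, x, y, hx, hy, hxy⟩
  obtain ⟨m, rfl⟩ : ∃ m, n = m + 3 := ⟨n - 3, by omega⟩
  simp only [show m + 3 - 1 = m + 2 by omega] at hxy
  have hy2 : y ^ 2 = 1 := by rw [← hy, pow_orderOf_eq_one]
  have hyy : y * y = 1 := by rw [← pow_two, hy2]
  have hyi : y⁻¹ = y := inv_eq_of_mul_eq_one_right hyy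
  have h4 : 4 ≤ 2 ^ (m + 2) := by rw [pow_add]; nlinarith [Nat.one_le_two_pow (n := m)]
  have h8 : 2 ^ (m + 3) = 2 * 2 ^ (m + 2) := by rw [← pow_succ']
  have hyx : y ∉ Subgroup.zpowers x := by
    intro hmem
    obtain ⟨i, hi⟩ := Subgroup.mem_zpowers_iff.mp hmem
    have hc : Commute y x := hi ▸ (Commute.refl x).zpow_left i
    rw [hc.eq, mul_inv_cancel_right] at hxy
    have h1 : x ^ 1 = x ^ (2 ^ (m + 2) - 1) := by rw [pow_one]; exact hxy
    rw [pow_eq_pow_iff_modEq, hx, Nat.modEq_iff_dvd' (by omega)] at h1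
    have := Nat.le_of_dvd (by omega) h1
    omega
  have hidx : (Subgroup.zpowers x).index = 2 := by
    have := (Subgroup.zpowers x).card_mul_index
    rw [Nat.card_zpowers, hx, hcard, pow_succ 2 (m + 3)] at this
    exact Nat.eq_of_mul_eq_mul_left (Nat.two_pow_pos (m + 3)) this
  set T := x ^ 2 ^ (m + 2) with hT
  have hxyi : ∀ i : ℕ, (x ^ i * y) ^ 2 = x ^ (i * 2 ^ (m + 2)) := by
    intro i
    have h1 : y * x ^ i * y⁻¹ = x ^ ((2 ^ (m + 2) - 1) * i) := by rw [← conj_pow, hxy, ← pow_mul]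
    rw [hyi] at h1
    calc (x ^ i * y) ^ 2 = x ^ i * (y * x ^ i * y) := by rw [pow_two]; group
      _ = x ^ (i * 2 ^ (m + 2)) := by
          rw [h1, ← pow_add]
          congr 1
          have h4' : 1 ≤ 2 ^ (m + 2) := by omega
          obtain ⟨c, hc⟩ := Nat.exists_eq_add_of_le h4'
          rw [hc, Nat.add_sub_cancel_left]; ring
  have hform : ∀ g : ↥P, (∃ i : ℕ, g = x ^ i) ∨ ∃ i : ℕ, g = x ^ i * y := by
    intro g
    by_cases hg : g ∈ Subgroup.zpowers x
    · obtain ⟨i, hi⟩ := mem_powers_iff_mem_zpowers.2 hg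
      exact Or.inl ⟨i, hi.symm⟩
    · have h1 : g * y ∈ Subgroup.zpowers x := by
        rw [Subgroup.mul_mem_iff_of_index_two hidx]
        exact ⟨fun h => absurd h hg, fun h => absurd h hyx⟩
      obtain ⟨i, hi⟩ := mem_powers_iff_mem_zpowers.2 h1
      have hi : x ^ i = g * y := hi
      exact Or.inr ⟨i, by rw [hi, mul_assoc, hyy, mul_one]⟩
  have hTo : orderOf T = 2 := by
    rw [hT, orderOf_pow' _ (by positivity), hx, h8, Nat.gcd_eq_right (dvd_mul_left _ _),
      Nat.mul_div_cancel _ (by positivity)]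
  have huniq : ∀ g ∈ Subgroup.zpowers x, g ^ 2 = 1 → g = 1 ∨ g = T := by
    intro g hg hg2
    rcases (Nat.dvd_prime Nat.prime_two).1 (orderOf_dvd_of_pow_eq_one hg2) with h | h
    · exact Or.inl (orderOf_eq_one_iff.1 h)
    · exact Or.inr (Block.BSWRec.involution_eq (R := Subgroup.zpowers x) inferInstance hg
        (pow_mem (Subgroup.mem_zpowers x) _) h hTo)
  -- `z` is the involution of `⟨x⟩`
  have hzT : (T : G) = z := by
    have hcomm : ∀ g : ↥P, g * ⟨z, hzP⟩ = ⟨z, hzP⟩ * g := fun g => Subtype.ext (hcen g g.2)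
    rcases hform ⟨z, hzP⟩ with ⟨i, hi⟩ | ⟨i, hi⟩
    · have h2 : (⟨z, hzP⟩ : ↥P) ^ 2 = 1 := Subtype.ext (by simp [← hz, pow_orderOf_eq_one])
      rcases huniq _ (hi ▸ pow_mem (Subgroup.mem_zpowers x) i) h2 with h | h
      · exact absurd (congrArg Subtype.val h) (Invol.ne_one_of_orderOf_two hz)
      · exact congrArg Subtype.val h.symm
    · exfalso
      have h1 := hcomm x
      rw [hi, ← mul_assoc, ← pow_succ', mul_assoc, pow_succ, mul_assoc, mul_right_inj] at h1
      have h2 : y * x * y⁻¹ = x := by rw [← h1, mul_inv_cancel_right]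
      rw [hxy] at h2
      have h3 : x ^ (2 ^ (m + 2) - 1) = x ^ 1 := by rw [pow_one]; exact h2
      rw [pow_eq_pow_iff_modEq, hx] at h3
      have h5 := (Nat.modEq_iff_dvd' (by omega)).1 h3.symm
      have := Nat.le_of_dvd (by omega) h5
      omega
  -- the homomorphism with kernel the dihedral maximal subgroup
  set M := Subgroup.closure ({x ^ 2, y} : Set ↥P)
  have hMnorm : ∀ i : ℕ, y * x ^ (2 * i) * y⁻¹ ∈ Subgroup.zpowers (x ^ 2) := fun i => by
    rw [← conj_pow, hxy, ← pow_mul, show (2 ^ (m + 2) - 1) * (2 * i) = 2 * ((2 ^ (m + 2) - 1) * i) by ring, pow_mul]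
    exact Subgroup.npow_mem_zpowers _ _
  have hZN : Subgroup.zpowers y ≤ Subgroup.normalizer (Subgroup.zpowers (x ^ 2) : Set ↥P) :=
    Subgroup.zpowers_le.2 <| by
      rw [Subgroup.mem_normalizer_iff]
      intro g
      constructor
      · intro hg
        obtain ⟨i, hi⟩ := mem_powers_iff_mem_zpowers.2 hg
        have hi : (x ^ 2) ^ i = g := hi
        rw [← hi, ← pow_mul]; exact hMnorm i
      · intro hg
        obtain ⟨i, hi⟩ := mem_powers_iff_mem_zpowers.2 hg
        have hi : (x ^ 2) ^ i = y * g * y⁻¹ := hi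
        have h1 := hMnorm i
        rw [pow_mul, hi] at h1
        simpa [hyi, mul_assoc, hyy, ← mul_assoc y y] using h1
  have hxM : x ∉ M := by
    intro hxM
    have hM : M = Subgroup.zpowers (x ^ 2) ⊔ Subgroup.zpowers y := by
      rw [Subgroup.zpowers_eq_closure, Subgroup.zpowers_eq_closure, ← Subgroup.closure_union]; rfl
    have hx' : x ∈ ((Subgroup.zpowers (x ^ 2) ⊔ Subgroup.zpowers y : Subgroup ↥P) : Set ↥P) := hM ▸ hxM
    rw [Subgroup.coe_mul_of_right_le_normalizer_left _ _ hZN] at hx'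
    obtain ⟨a, ha, b, hb, hab⟩ := hx'
    obtain ⟨i, hi⟩ := mem_powers_iff_mem_zpowers.2 ha
    have hi : (x ^ 2) ^ i = a := hi
    change a * b = x at hab
    rcases mem_zpowers_invol hy hb with rfl | rfl
    · rw [mul_one, ← hi, ← pow_mul] at hab
      have h1 : x ^ (2 * i) = x ^ 1 := by rw [pow_one]; exact hab
      rw [pow_eq_pow_iff_modEq, hx] at h1
      have h2 : Nat.ModEq 2 (2 * i) 1 := Nat.ModEq.of_dvd (dvd_pow_self 2 (by omega)) h1
      simp [Nat.ModEq, Nat.mul_mod_right] at h2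
    · apply hyx
      rw [eq_inv_mul_of_mul_eq hab, ← hi]
      exact mul_mem (inv_mem (pow_mem (pow_mem (Subgroup.mem_zpowers x) _) _)) (Subgroup.mem_zpowers x)
  have hMi : M.index = 2 := by
    rw [Subgroup.index_eq_two_iff']
    refine ⟨x, fun g => ?_⟩
    have hxx : x * x ∈ M := by
      rw [← pow_two]; exact Subgroup.subset_closure (Set.mem_insert _ _)
    have hyM : y ∈ M := Subgroup.subset_closure (Set.mem_insert_of_mem _ rfl)
    have hev : ∀ i, Even i → x ^ i ∈ M := by
      rintro i ⟨k, rfl⟩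
      rw [← two_mul, pow_mul]
      exact pow_mem (Subgroup.subset_closure (Set.mem_insert _ _)) k
    have hex : ∀ g : ↥P, g ∈ M ∨ x * g ∈ M := by
      intro g
      rcases hform g with ⟨i, rfl⟩ | ⟨i, rfl⟩ <;> rcases Nat.even_or_odd i with hi | hi
      · exact Or.inl (hev i hi)
      · exact Or.inr (by rw [← pow_succ']; exact hev _ hi.add_one)
      · exact Or.inl (mul_mem (hev i hi) hyM)
      · exact Or.inr (by rw [← mul_assoc, ← pow_succ']; exact mul_mem (hev _ hi.add_one) hyM)
    rcases hex g with h | h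
    · exact Or.inr ⟨h, fun h' => hxM ((mul_mem_cancel_right h).1 h')⟩
    · exact Or.inl ⟨h, fun h' => hxM ((mul_mem_cancel_right h').1 h)⟩
  haveI := Subgroup.normal_of_index_eq_two hMi
  have hq : Nat.card (↥P ⧸ M) = 2 := hMi
  haveI : Fact (1 < 2) := ⟨by norm_num⟩
  haveI : IsCyclic (↥P ⧸ M) := isCyclic_of_prime_card hq
  let e : ↥P ⧸ M ≃* Multiplicative (ZMod 2) :=
    mulEquivOfCyclicCardEq (by rw [hq]; simp [Nat.card_eq_fintype_card])
  let φ : ↥P →* Multiplicative (ZMod 2) := e.toMonoidHom.comp (QuotientGroup.mk' M)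
  have hφ : ∀ g, φ g = 1 ↔ g ∈ M := fun g => by
    show e (QuotientGroup.mk' M g) = 1 ↔ _
    rw [MulEquiv.map_eq_one_iff, QuotientGroup.mk'_apply, QuotientGroup.eq_one_iff]
  have hxpow : ∀ i, x ^ i ∈ M → Even i := by
    intro i h
    by_contra ho
    obtain ⟨k, rfl⟩ := Nat.not_even_iff_odd.1 ho
    rw [pow_succ, pow_mul] at h
    exact hxM ((mul_mem_cancel_left (pow_mem (Subgroup.subset_closure (Set.mem_insert _ _)) k)).1 h)
  obtain ⟨ψ, hψ⟩ := exists_index_two P z hC φ
    (fun g hg => (hφ g).2 (by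
      rcases hform g with ⟨i, rfl⟩ | ⟨i, rfl⟩
      · rw [← pow_mul] at hg
        have h1 := orderOf_dvd_of_pow_eq_one hg
        rw [hx, h8] at h1
        obtain ⟨c, hc⟩ := h1
        have : Even i := ⟨2 ^ (m + 1) * c, by
          have : 2 ^ (m + 2) = 2 * 2 ^ (m + 1) := by rw [← pow_succ']
          rw [this] at hc
          linarith⟩
        obtain ⟨k, rfl⟩ := this
        rw [← two_mul, pow_mul]
        exact pow_mem (Subgroup.subset_closure (Set.mem_insert _ _)) k
      · rw [hxyi] at hg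
        have h1 := orderOf_dvd_of_pow_eq_one hg
        rw [hx, h8] at h1
        obtain ⟨k, rfl⟩ := Nat.dvd_of_mul_dvd_mul_right (by positivity) h1
        rw [pow_mul]
        exact mul_mem (pow_mem (Subgroup.subset_closure (Set.mem_insert _ _)) k)
          (Subgroup.subset_closure (Set.mem_insert_of_mem _ rfl))))
    (fun g hg4 hg2 => by
      have h2 : (g ^ 2) ^ 2 = 1 := by rw [← pow_mul]; exact hg4
      have hmem : g ^ 2 ∈ Subgroup.zpowers x := Subgroup.sq_mem_of_index_two hidx g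
      rw [← hzT, ← Subgroup.coe_pow]
      exact congrArg Subtype.val ((huniq _ hmem h2).resolve_left hg2))
    (x * y) (fun h => by
      rw [hφ, ← pow_one x] at h
      have hyM : y ∈ M := Subgroup.subset_closure (Set.mem_insert_of_mem _ rfl)
      exact absurd (hxpow 1 ((mul_mem_cancel_right hyM).1 h)) (by decide))
    (by
      rw [← Subgroup.coe_pow, ← hzT]
      have h1 := hxyi 1
      rw [pow_one, one_mul] at h1
      exact congrArg Subtype.val h1)
    (Invol.ne_one_of_orderOf_two hz) (by rw [← hz, pow_orderOf_eq_one])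
  obtain ⟨a, b, hab⟩ := not_comm hna
  rcases (inferInstance : ψ.ker.Normal).eq_bot_or_eq_top with h | h
  · exact hab ((ψ.ker_eq_bot_iff.1 h) (by rw [map_mul, map_mul, mul_comm]))
  · exact hψ (MonoidHom.mem_ker.1 (h ▸ Subgroup.mem_top _))

/-- The group is `PSL(2, q)` with `q` odd and a 2-group as the centraliser of some involution. -/
theorem exists_psl (hP : Prop' G) (hna : ¬ IsMulCommutative G) :
    ∃ (F : Type) (_ : Field F) (_ : Fintype F), Odd (Fintype.card F) ∧
      ∃ e : G ≃* Matrix.ProjectiveSpecialLinearGroup (Fin 2) F, ∃ z : G, orderOf z = 2 ∧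
        IsPGroup 2 ↥(Subgroup.centralizer ({z} : Set G)) := by
  classical
  haveI : Fact (Nat.Prime 2) := ⟨Nat.prime_two⟩
  obtain ⟨u₀, v₀, hu, hv, huv, hne⟩ := exists_pair hna
  obtain ⟨S₀⟩ := (inferInstance : Nonempty (Sylow 2 G))
  -- put both involutions into one Sylow subgroup
  have hW : IsPGroup 2 ↥(Subgroup.closure ({u₀, v₀} : Set G)) := by
    refine Invol.isPGroup_closure_pair hu hv (a := 1) ?_
    rw [pow_one]
    refine orderOf_eq_prime ?_ (fun e => hne (by rw [eq_inv_of_mul_eq_one_left e, Invol.inv_of_orderOf_two hv]))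
    rw [Commute.mul_pow huv, pow_two, pow_two, Invol.mul_self_of_orderOf_two hu,
      Invol.mul_self_of_orderOf_two hv, one_mul]
  obtain ⟨S, hS⟩ := hW.exists_le_sylow
  have huS : u₀ ∈ (S : Subgroup G) := hS (Subgroup.subset_closure (Set.mem_insert _ _))
  have hvS : v₀ ∈ (S : Subgroup G) := hS (Subgroup.subset_closure (Set.mem_insert_of_mem _ rfl))
  haveI : Nontrivial ↥(S : Subgroup G) :=
    ⟨⟨⟨u₀, huS⟩, 1, fun e => Invol.ne_one_of_orderOf_two hu (congrArg Subtype.val e)⟩⟩
  haveI := S.isPGroup'.center_nontrivial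
  obtain ⟨z', hz'⟩ : ∃ z' : ↥(Subgroup.center ↥(S : Subgroup G)), orderOf z' = 2 := by
    obtain ⟨j, hj0, hj⟩ := ((S.isPGroup'.to_subgroup (Subgroup.center _)).nontrivial_iff_card).1 inferInstance
    exact exists_prime_orderOf_dvd_card' 2 (hj ▸ dvd_pow_self 2 (by omega))
  set z : G := ((z' : ↥(S : Subgroup G)) : G) with hzdef
  have hz : orderOf z = 2 := by rw [hzdef, Subgroup.orderOf_coe, Subgroup.orderOf_coe, hz']
  have hzS : z ∈ (S : Subgroup G) := (z' : ↥(S : Subgroup G)).2
  have hcen : ∀ g ∈ (S : Subgroup G), g * z = z * g := fun g hg =>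
    congrArg Subtype.val (Subgroup.mem_center_iff.1 z'.2 ⟨g, hg⟩)
  obtain ⟨v, hvo, hvS', hzv⟩ : ∃ v, orderOf v = 2 ∧ v ∈ (S : Subgroup G) ∧ z ≠ v := by
    by_cases h : z = u₀
    · exact ⟨v₀, hv, hvS, h ▸ hne⟩
    · exact ⟨u₀, hu, huS, h⟩
  have hC2 := isPGroup_centralizer hP hz hvo hzv (hcen v hvS')
  have hSC : (S : Subgroup G) ≤ Subgroup.centralizer ({z} : Set G) := fun g hg =>
    Subgroup.mem_centralizer_singleton_iff.2 (hcen g hg)
  have hCS : Subgroup.centralizer ({z} : Set G) = (S : Subgroup G) := S.is_maximal' hC2 hSC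
  have hC : ∀ g : G, g * z = z * g → g ∈ (S : Subgroup G) := fun g hg =>
    hCS ▸ Subgroup.mem_centralizer_singleton_iff.2 hg
  have h4 := card_centralizer_four hP hz hvo hzv (hcen v hvS') hzS hvS' hcen
  obtain ⟨n, hn, hdih⟩ : ∃ n, 2 ≤ n ∧ Nonempty ((S : Subgroup G) ≃* DihedralGroup n) := by
    rcases Cfsg.Agent.S3224.result S.isPGroup' ⟨v, hvS'⟩ (by rw [Subgroup.orderOf_mk]; exact hvo) h4 with
      ⟨n, ⟨e⟩⟩ | h | h
    · refine ⟨n, ?_, ⟨e⟩⟩
      have h1 := Nat.card_congr e.toEquiv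
      rw [DihedralGroup.nat_card] at h1
      have h2 := Nat.le_of_dvd Nat.card_pos (Subgroup.card_subgroup_dvd_card
        (Subgroup.centralizer ({⟨v, hvS'⟩} : Set ↥(S : Subgroup G))))
      omega
    · exact absurd h (not_quasiDihedral hna _ hz hzS hcen hC)
    · have hK : IsKleinFour ↥(S : Subgroup G) := by
        refine ⟨h, ?_⟩
        haveI : Finite ↥(S : Subgroup G) := inferInstance
        have htop : Subgroup.centralizer ({⟨v, hvS'⟩} : Set ↥(S : Subgroup G)) = ⊤ :=
          Subgroup.eq_top_of_card_eq _ (h4.trans h.symm)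
        refine (Nat.prime_two.eq_one_or_self_of_dvd _ (Monoid.exponent_dvd_of_forall_pow_eq_one ?_)).resolve_left
          fun e => not_subsingleton ↥(S : Subgroup G) (Monoid.exp_eq_one_iff.1 e)
        intro g
        have hgv := Subgroup.mem_centralizer_singleton_iff.1 (show g ∈ Subgroup.centralizer ({⟨v, hvS'⟩} : Set ↥(S : Subgroup G)) from htop ▸ Subgroup.mem_top g)
        refine Subtype.ext ?_
        rw [Subgroup.coe_pow, Subgroup.coe_one]
        have hz2 : z ^ 2 = 1 := by rw [← hz, pow_orderOf_eq_one]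
        have hv2 : v ^ 2 = 1 := by rw [← hvo, pow_orderOf_eq_one]
        rcases centralizer_four hP hz hvo hzv (hcen v hvS') (hcen g g.2) (congrArg Subtype.val hgv) with
          e | e | e | e <;> rw [e]
        · exact one_pow 2
        · exact hz2
        · exact hv2
        · rw [Commute.mul_pow (show Commute z v from (hcen v hvS').symm), hz2, hv2, one_mul]
      haveI := hK
      exact ⟨2, le_rfl, ⟨Classical.choice IsKleinFour.nonempty_mulEquiv⟩⟩
  set O := (Cfsg.oddCore (Subgroup.centralizer ({z} : Set G))).map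
    (Subgroup.centralizer ({z} : Set G)).subtype with hO
  have hObot : O = ⊥ := by
    rw [hO, Subgroup.map_eq_bot_iff_of_injective _ (Subgroup.subtype_injective _), ← Subgroup.card_eq_one]
    obtain ⟨j, hj⟩ := IsPGroup.iff_card.1 (hC2.to_subgroup (Cfsg.oddCore ↥(Subgroup.centralizer ({z} : Set G))))
    have hc : Nat.Coprime (2 ^ j) 2 := hj ▸ Grp.pPrimeCore_coprime
    rcases Nat.eq_zero_or_pos j with rfl | hj0
    · simpa using hj
    · rw [Nat.coprime_pow_left_iff hj0] at hc
      exact absurd hc (by decide)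
  obtain ⟨F, iF, iFF, hodd, ⟨e⟩⟩ := Block.BSWRec.iso_psl_of_dihedral S n hn hdih z hz hzS hcen O hO
    (fun h => absurd hObot h)
    (fun s _ hs => absurd (Subgroup.mem_centralizer_iff.2 fun o ho => by
      rw [hObot, SetLike.mem_coe, Subgroup.mem_bot] at ho; rw [ho, one_mul, mul_one]) hs)
    (fun Y hY hY1 => absurd (le_bot_iff.1 (hObot ▸ hY)) hY1)
  exact ⟨F, iF, iFF, hodd, e, z, hz, hC2⟩

end Cfsg.Agent.Transfer.SelfCentNoncyclic
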